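import Cfsg.Prelude.Def_AxialAlgebras

/-!
Basic consequences of a Majorana pair: the splitting of a vector along an axis, and the fusion
identities used in the proof of Sakuma's theorem.
-/

set_option autoImplicit false

namespace Cfsg.Lib.Majorana

open Cfsg.Axial

variable {V : Type*} [AddCommGroup V] [Module ℝ V]
  {mul : V →ₗ[ℝ] V →ₗ[ℝ] V} {B : LinearMap.BilinForm ℝ V}

/-- `x` lies in the even part of the axis `a`, with the fusion identities of its components. -/
def Plus (mul : V →ₗ[ℝ] V →ₗ[ℝ] V) (B : LinearMap.BilinForm ℝ V) (a x : V) : Prop :=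
  ∃ z v : V, x = B a x • a + z + v ∧ mul a z = 0 ∧ mul a v = (1 / 4 : ℝ) • v ∧
    mul a (mul z z) = 0 ∧ mul a (mul z v) = (1 / 4 : ℝ) • mul z v ∧
    mul a (mul v v) = (B v v / 4) • a

theorem mem_eigen {a v : V} {c : ℝ} : v ∈ eigen mul a c ↔ mul a v = c • v :=
  Module.End.mem_eigenspace_iff

theorem eigenSum_single (a : V) (c : ℝ) : eigenSum mul a {c} = eigen mul a c := by
  simp only [eigenSum, iSup_singleton]

theorem eigenSum_pair (a : V) (c d : ℝ) :
    eigenSum mul a {c, d} = eigen mul a c ⊔ eigen mul a d := by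
  simp only [eigenSum, iSup_insert, iSup_singleton]

theorem split {μ : V ≃ₗ[ℝ] V} {a : V} (h : IsMajoranaPair mul B μ a) (x : V) :
    ∃ (t : ℝ) (z v w : V), x = t • a + z + v + w ∧ μ x = t • a + z + v - w ∧
      mul a z = 0 ∧ mul a v = (1 / 4 : ℝ) • v ∧ mul a w = (1 / 32 : ℝ) • w := by
  obtain ⟨-, -, ⟨⟨-, hid, htop, -⟩, hone⟩, hfix, hneg⟩ := h
  have hx : x ∈ eigenSum mul a majoranaSpectrum := htop ▸ Submodule.mem_top
  simp only [eigenSum, majoranaSpectrum, iSup_insert, iSup_singleton, Submodule.mem_sup] at hx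
  obtain ⟨x1, hx1, y, ⟨z, hz, y', ⟨v, hv, w, hw, rfl⟩, rfl⟩, rfl⟩ := hx
  obtain ⟨t, rfl⟩ := Submodule.mem_span_singleton.1 (hone ▸ hx1)
  have hf : ∀ (c : ℝ) (u : V), c ∈ ({1, 0, 1 / 4} : Set ℝ) → u ∈ eigen mul a c → μ u = u := by
    intro c u hc hu
    exact hfix u (le_iSup₂ (f := fun c _ => eigen mul a c) c hc hu)
  have ha : μ (t • a) = t • a := hf 1 _ (by simp) hx1
  have hz' : μ z = z := hf 0 _ (by simp) hz
  have hv' : μ v = v := hf (1 / 4) _ (by simp) hv
  have hw' : μ w = -w := hneg w hw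
  refine ⟨t, z, v, w, by abel, ?_, ?_, mem_eigen.1 hv, mem_eigen.1 hw⟩
  · rw [map_add, map_add, map_add, ha, hz', hv', hw']
    abel
  · rw [mem_eigen.1 hz, zero_smul]

theorem invol {μ : V ≃ₗ[ℝ] V} {a : V} (h : IsMajoranaPair mul B μ a) (x : V) : μ (μ x) = x := by
  obtain ⟨t, z, v, w, hx, hμ, hz, hv, hw⟩ := split h x
  obtain ⟨-, -, ⟨⟨-, hid, -, -⟩, -⟩, hfix, hneg⟩ := h
  have hw' : μ w = -w := hneg w (mem_eigen.2 hw)
  have : μ (μ x) = μ x + (2 : ℝ) • w := by
    have e : μ x = x - (2 : ℝ) • w := by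
      rw [hμ, hx]
      module
    conv_lhs => rw [e, map_sub, map_smul, hw']
    module
  rw [this, hμ, hx]
  module

theorem fix_axis {μ : V ≃ₗ[ℝ] V} {a : V} (h : IsMajoranaPair mul B μ a) : μ a = a :=
  h.2.2.2.1 a (le_iSup₂ (f := fun c _ => eigen mul a c) (1 : ℝ) (by simp)
    (mem_eigen.2 (by rw [h.2.2.1.1.2.1, one_smul])))

theorem minus_eq {μ : V ≃ₗ[ℝ] V} {a : V} (h : IsMajoranaPair mul B μ a) (x : V) :
    mul a (x - μ x) = (1 / 32 : ℝ) • (x - μ x) := by
  obtain ⟨t, z, v, w, hx, hμ, hz, hv, hw⟩ := split h x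
  have e : x - μ x = (2 : ℝ) • w := by
    rw [hμ, hx]
    module
  rw [e, map_smul, hw]
  module

theorem plus_half {μ : V ≃ₗ[ℝ] V} {a : V}
    (hass : ∀ u v w : V, B u (mul v w) = B (mul u v) w)
    (h : IsMajoranaPair mul B μ a) (hn : B a a = 1) (x : V) :
    Plus mul B a ((1 / 2 : ℝ) • (x + μ x)) := by
  obtain ⟨t, z, v, w, hx, hμ, hz, hv, -⟩ := split h x
  obtain ⟨-, -, ⟨⟨-, hid, -, hfus⟩, hone⟩, -, -⟩ := h
  have e : (1 / 2 : ℝ) • (x + μ x) = t • a + z + v := by
    rw [hμ, hx]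
    module
  have hBz : B a z = 0 := by
    have h1 := hass a a z
    rw [hz, map_zero, hid] at h1
    exact h1.symm
  have hBv : B a v = 0 := by
    have h1 := hass a a v
    rw [hv, map_smul, hid, smul_eq_mul] at h1
    linarith
  have ht : B a ((1 / 2 : ℝ) • (x + μ x)) = t := by
    rw [e, map_add, map_add, map_smul, hn, hBz, hBv]
    simp
  refine ⟨z, v, by rw [ht, e], hz, hv, ?_, ?_, ?_⟩
  · have h00 : monsterLaw (1 / 4 : ℝ) (1 / 32) 0 0 = {0} := by
      norm_num [monsterLaw]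
    have := hfus 0 (by simp [majoranaSpectrum]) 0 (by simp [majoranaSpectrum]) z
      (mem_eigen.2 (by rw [hz, zero_smul])) z (mem_eigen.2 (by rw [hz, zero_smul]))
    rw [h00, eigenSum_single, mem_eigen, zero_smul] at this
    exact this
  · have h04 : monsterLaw (1 / 4 : ℝ) (1 / 32) 0 (1 / 4) = {1 / 4} := by
      norm_num [monsterLaw]
    have := hfus 0 (by simp [majoranaSpectrum]) (1 / 4) (by simp [majoranaSpectrum]) z
      (mem_eigen.2 (by rw [hz, zero_smul])) v (mem_eigen.2 hv)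
    rwa [h04, eigenSum_single, mem_eigen] at this
  · have h44 : monsterLaw (1 / 4 : ℝ) (1 / 32) (1 / 4) (1 / 4) = {1, 0} := by
      norm_num [monsterLaw]
    have := hfus (1 / 4) (by simp [majoranaSpectrum]) (1 / 4) (by simp [majoranaSpectrum]) v
      (mem_eigen.2 hv) v (mem_eigen.2 hv)
    rw [h44, eigenSum_pair, Submodule.mem_sup] at this
    obtain ⟨y, hy, z', hz', hvv⟩ := this
    obtain ⟨r, rfl⟩ := Submodule.mem_span_singleton.1 (hone ▸ hy)
    rw [mem_eigen, zero_smul] at hz'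
    have hBz' : B a z' = 0 := by
      have h1 := hass a a z'
      rw [hz', map_zero, hid] at h1
      exact h1.symm
    have hr : r = B v v / 4 := by
      have h1 : B a (mul v v) = r := by
        rw [← hvv, map_add, map_smul, hn, hBz']
        simp
      rw [← h1, hass a v v, hv, map_smul, LinearMap.smul_apply, smul_eq_mul]
      ring
    rw [← hvv, map_add, map_smul, hid, hz', add_zero, hr]

/-- An automorphism carrying one axis to another intertwines the Miyamoto involutions. -/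
theorem intertwine {μ μ' φ : V ≃ₗ[ℝ] V} {a a' : V} (h : IsMajoranaPair mul B μ a)
    (h' : IsMajoranaPair mul B μ' a') (hφ : ∀ u v : V, φ (mul u v) = mul (φ u) (φ v))
    (he : φ a = a') : φ * μ = μ' * φ := by
  refine LinearEquiv.ext fun x => ?_
  obtain ⟨t, z, v, w, hx, hμ, hz, hv, hw⟩ := split h x
  have htr : ∀ (c : ℝ) (u : V), mul a u = c • u → φ u ∈ eigen mul a' c := by
    intro c u hu
    rw [mem_eigen, ← he, ← hφ, hu, map_smul]
  obtain ⟨-, -, ⟨⟨-, hid', -, -⟩, -⟩, hfix', hneg'⟩ := h'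
  have hf : ∀ (c : ℝ) (u : V), c ∈ ({1, 0, 1 / 4} : Set ℝ) → u ∈ eigen mul a' c → μ' u = u := by
    intro c u hc hu
    exact hfix' u (le_iSup₂ (f := fun c _ => eigen mul a' c) c hc hu)
  have h1 : μ' a' = a' := hf 1 _ (by simp) (mem_eigen.2 (by rw [hid', one_smul]))
  have h2 : μ' (φ z) = φ z := hf 0 _ (by simp) (htr 0 z (by rw [hz, zero_smul]))
  have h3 : μ' (φ v) = φ v := hf (1 / 4) _ (by simp) (htr _ v hv)
  have h4 : μ' (φ w) = -φ w := hneg' _ (htr _ w hw)
  show φ (μ x) = μ' (φ x)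
  rw [hμ, hx]
  simp only [map_add, map_sub, map_smul, he, h1, h2, h3, h4]
  abel

end Cfsg.Lib.Majorana
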