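import Cfsg.Agent.Lib.Majorana.Sakuma

/-!
The dihedral group generated by two Majorana involutions.
-/

set_option autoImplicit false

namespace Cfsg.Lib.Majorana

open Cfsg.Axial

variable {V : Type*} [AddCommGroup V] [Module ℝ V]
  {mul : V →ₗ[ℝ] V →ₗ[ℝ] V} {B : LinearMap.BilinForm ℝ V}

/-- The orbit of two axes under the product of their involutions. -/
noncomputable def orbitAxis (μ₀ μ₁ : V ≃ₗ[ℝ] V) (a₀ a₁ : V) (j : ℤ) : V :=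
  ((μ₁ * μ₀) ^ (j / 2)) (if j % 2 = 0 then a₀ else a₁)

variable {μ₀ μ₁ : V ≃ₗ[ℝ] V} {a₀ a₁ : V}

theorem sq_eq_one {μ : V ≃ₗ[ℝ] V} {a : V} (h : IsMajoranaPair mul B μ a) : μ * μ = 1 :=
  LinearEquiv.ext fun x => invol h x

theorem inv_eq_self' {μ : V ≃ₗ[ℝ] V} {a : V} (h : IsMajoranaPair mul B μ a) : μ⁻¹ = μ :=
  inv_eq_of_mul_eq_one_right (sq_eq_one h)

theorem left_conj (h₀ : IsMajoranaPair mul B μ₀ a₀) (h₁ : IsMajoranaPair mul B μ₁ a₁) (k : ℤ) :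
    μ₀ * (μ₁ * μ₀) ^ k = (μ₁ * μ₀) ^ (-k) * μ₀ := by
  have h : μ₀ * (μ₁ * μ₀) * μ₀⁻¹ = (μ₁ * μ₀)⁻¹ := by
    rw [mul_inv_rev, inv_eq_self' h₀, inv_eq_self' h₁, mul_assoc, mul_assoc μ₁, sq_eq_one h₀,
      mul_one]
  have h2 := conj_zpow (i := k) (a := μ₀) (b := μ₁ * μ₀)
  rw [h, inv_zpow] at h2
  rw [zpow_neg, h2, inv_mul_cancel_right]

theorem right_conj (h₀ : IsMajoranaPair mul B μ₀ a₀) (h₁ : IsMajoranaPair mul B μ₁ a₁) (k : ℤ) :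
    μ₁ * (μ₁ * μ₀) ^ k = (μ₁ * μ₀) ^ (1 - k) * μ₀ := by
  have e : μ₁ = μ₁ * μ₀ * μ₀ := by rw [mul_assoc, sq_eq_one h₀, mul_one]
  calc μ₁ * (μ₁ * μ₀) ^ k = μ₁ * μ₀ * (μ₀ * (μ₁ * μ₀) ^ k) := by rw [← mul_assoc, ← e]
    _ = (μ₁ * μ₀) ^ (1 - k) * μ₀ := by
      rw [left_conj h₀ h₁, ← mul_assoc, sub_eq_add_neg, zpow_add, zpow_one]

theorem orbit_shift (k j : ℤ) :
    ((μ₁ * μ₀) ^ k) (orbitAxis μ₀ μ₁ a₀ a₁ j) = orbitAxis μ₀ μ₁ a₀ a₁ (j + 2 * k) := by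
  simp only [orbitAxis]
  rw [show (j + 2 * k) / 2 = k + j / 2 by omega, show (j + 2 * k) % 2 = j % 2 by omega, zpow_add]
  rfl

theorem orbit_zero : orbitAxis μ₀ μ₁ a₀ a₁ 0 = a₀ := by
  simp [orbitAxis]

theorem orbit_one : orbitAxis μ₀ μ₁ a₀ a₁ 1 = a₁ := by
  simp [orbitAxis]

theorem orbit_neg (h₀ : IsMajoranaPair mul B μ₀ a₀) (h₁ : IsMajoranaPair mul B μ₁ a₁) (j : ℤ) :
    μ₀ (orbitAxis μ₀ μ₁ a₀ a₁ j) = orbitAxis μ₀ μ₁ a₀ a₁ (-j) := by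
  have base : ∀ e : ℤ, e = 0 ∨ e = 1 →
      μ₀ (orbitAxis μ₀ μ₁ a₀ a₁ e) = orbitAxis μ₀ μ₁ a₀ a₁ (-e) := by
    rintro e (rfl | rfl)
    · rw [orbit_zero, fix_axis h₀, neg_zero, orbit_zero]
    · rw [orbit_one, show (-1 : ℤ) = 1 + 2 * (-1) by norm_num, ← orbit_shift, orbit_one]
      have e : (μ₁ * μ₀) ^ (-1 : ℤ) = μ₀ * μ₁ := by
        rw [zpow_neg_one, mul_inv_rev, inv_eq_self' h₀, inv_eq_self' h₁]
      rw [e]
      show μ₀ a₁ = μ₀ (μ₁ a₁)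
      rw [fix_axis h₁]
  obtain ⟨k, e, he, rfl⟩ : ∃ k e : ℤ, (e = 0 ∨ e = 1) ∧ j = e + 2 * k :=
    ⟨j / 2, j % 2, by omega, by omega⟩
  rw [← orbit_shift]
  show (μ₀ * (μ₁ * μ₀) ^ k) (orbitAxis μ₀ μ₁ a₀ a₁ e) = _
  rw [left_conj h₀ h₁]
  show ((μ₁ * μ₀) ^ (-k)) (μ₀ (orbitAxis μ₀ μ₁ a₀ a₁ e)) = _
  rw [base e he, orbit_shift]
  congr 1
  ring

theorem orbit_two_sub (h₀ : IsMajoranaPair mul B μ₀ a₀) (h₁ : IsMajoranaPair mul B μ₁ a₁) (j : ℤ) :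
    μ₁ (orbitAxis μ₀ μ₁ a₀ a₁ j) = orbitAxis μ₀ μ₁ a₀ a₁ (2 - j) := by
  have h := orbit_neg h₀ h₁ j
  have e := right_conj h₀ h₁ 0
  rw [zpow_zero, mul_one, sub_zero] at e
  have e2 : μ₁ (orbitAxis μ₀ μ₁ a₀ a₁ j)
      = ((μ₁ * μ₀) ^ (1 : ℤ)) (μ₀ (orbitAxis μ₀ μ₁ a₀ a₁ j)) :=
    congrArg (fun f : V ≃ₗ[ℝ] V => f (orbitAxis μ₀ μ₁ a₀ a₁ j)) e
  rw [e2, h, orbit_shift]
  congr 1
  ring

/-- Automorphisms of the product and the form. -/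
def autGroup (mul : V →ₗ[ℝ] V →ₗ[ℝ] V) (B : LinearMap.BilinForm ℝ V) : Subgroup (V ≃ₗ[ℝ] V) where
  carrier := {φ | (∀ u v, φ (mul u v) = mul (φ u) (φ v)) ∧ ∀ u v, B (φ u) (φ v) = B u v}
  one_mem' := ⟨fun _ _ => rfl, fun _ _ => rfl⟩
  mul_mem' {f g} hf hg := ⟨fun u v => by
      show f (g (mul u v)) = mul (f (g u)) (f (g v))
      rw [hg.1, hf.1], fun u v => by
      show B (f (g u)) (f (g v)) = B u v
      rw [hf.2, hg.2]⟩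
  inv_mem' {f} hf := by
    refine ⟨fun u v => f.injective ?_, fun u v => ?_⟩
    · show f (f.symm (mul u v)) = f (mul (f.symm u) (f.symm v))
      rw [hf.1, LinearEquiv.apply_symm_apply, LinearEquiv.apply_symm_apply,
        LinearEquiv.apply_symm_apply]
    · show B (f.symm u) (f.symm v) = B u v
      rw [← hf.2, LinearEquiv.apply_symm_apply, LinearEquiv.apply_symm_apply]

theorem autGroup_zpow (h₀ : IsMajoranaPair mul B μ₀ a₀) (h₁ : IsMajoranaPair mul B μ₁ a₁) (k : ℤ) :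
    (∀ u v, ((μ₁ * μ₀) ^ k) (mul u v) = mul (((μ₁ * μ₀) ^ k) u) (((μ₁ * μ₀) ^ k) v)) ∧
      ∀ u v, B (((μ₁ * μ₀) ^ k) u) (((μ₁ * μ₀) ^ k) v) = B u v :=
  (autGroup mul B).zpow_mem
    ((autGroup mul B).mul_mem ⟨h₁.1, h₁.2.1⟩ ⟨h₀.1, h₀.2.1⟩) k

theorem Plus.map {a x : V} (h : Plus mul B a x) (φ : V ≃ₗ[ℝ] V)
    (hm : ∀ u v, φ (mul u v) = mul (φ u) (φ v)) (hB : ∀ u v, B (φ u) (φ v) = B u v) :
    Plus mul B (φ a) (φ x) := by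
  obtain ⟨z, v, hx, hz, hv, hzz, hzv, hvv⟩ := h
  refine ⟨φ z, φ v, ?_, ?_, ?_, ?_, ?_, ?_⟩
  · rw [hB]
    conv_lhs => rw [hx]
    simp only [map_add, map_smul]
  · rw [← hm, hz, map_zero]
  · rw [← hm, hv, map_smul]
  · rw [← hm, ← hm, hzz, map_zero]
  · rw [← hm, ← hm, hzv, map_smul]
  · rw [← hm, ← hm, hvv, map_smul, hB]

theorem fam_orbit (hV : IsMajoranaAmbient mul B)
    (h₀ : IsMajoranaPair mul B μ₀ a₀) (h₁ : IsMajoranaPair mul B μ₁ a₁)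
    (hn₀ : B a₀ a₀ = 1) (hn₁ : B a₁ a₁ = 1) : Fam mul B (orbitAxis μ₀ μ₁ a₀ a₁) := by
  obtain ⟨hc, hs, -, hass, -⟩ := hV
  have hsplit : ∀ i : ℤ, ∃ k e : ℤ, (e = 0 ∨ e = 1) ∧ i = e + 2 * k :=
    fun i => ⟨i / 2, i % 2, by omega, by omega⟩
  refine ⟨hc, hs, hass, ?_, ?_, ?_, ?_, ?_⟩
  · intro i
    obtain ⟨k, e, he, rfl⟩ := hsplit i
    rw [← orbit_shift, ← (autGroup_zpow h₀ h₁ k).1]
    rcases he with rfl | rfl
    · rw [orbit_zero, h₀.2.2.1.1.2.1]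
    · rw [orbit_one, h₁.2.2.1.1.2.1]
  · intro i
    obtain ⟨k, e, he, rfl⟩ := hsplit i
    rw [← orbit_shift, (autGroup_zpow h₀ h₁ k).2]
    rcases he with rfl | rfl
    · rw [orbit_zero, hn₀]
    · rw [orbit_one, hn₁]
  · intro l i j
    have e : ∀ i : ℤ, orbitAxis μ₀ μ₁ a₀ a₁ (2 * l - i)
        = ((μ₁ * μ₀) ^ l) (μ₀ (orbitAxis μ₀ μ₁ a₀ a₁ i)) := by
      intro i
      rw [orbit_neg h₀ h₁, orbit_shift]
      congr 1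
      ring
    rw [e, e, (autGroup_zpow h₀ h₁ l).2, h₀.2.1]
  · intro i p
    obtain ⟨k, e, he, rfl⟩ := hsplit i
    have base : mul (orbitAxis μ₀ μ₁ a₀ a₁ e)
          (orbitAxis μ₀ μ₁ a₀ a₁ (e + p) - orbitAxis μ₀ μ₁ a₀ a₁ (e - p))
        = (1 / 32 : ℝ) • (orbitAxis μ₀ μ₁ a₀ a₁ (e + p) - orbitAxis μ₀ μ₁ a₀ a₁ (e - p)) := by
      rcases he with rfl | rfl
      · rw [orbit_zero, zero_add, zero_sub, ← orbit_neg h₀ h₁]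
        exact minus_eq h₀ _
      · rw [orbit_one, show (1 : ℤ) - p = 2 - (1 + p) by ring, ← orbit_two_sub h₀ h₁]
        exact minus_eq h₁ _
    have e1 := congrArg ((μ₁ * μ₀) ^ k) base
    rw [(autGroup_zpow h₀ h₁ k).1, map_smul, map_sub, orbit_shift, orbit_shift, orbit_shift,
      show e + p + 2 * k = e + 2 * k + p by ring, show e - p + 2 * k = e + 2 * k - p by ring] at e1
    exact e1
  · intro i p
    obtain ⟨k, e, he, rfl⟩ := hsplit i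
    have base : Plus mul B (orbitAxis μ₀ μ₁ a₀ a₁ e) ((1 / 2 : ℝ) •
        (orbitAxis μ₀ μ₁ a₀ a₁ (e + p) + orbitAxis μ₀ μ₁ a₀ a₁ (e - p))) := by
      rcases he with rfl | rfl
      · rw [orbit_zero, zero_add, zero_sub, ← orbit_neg h₀ h₁]
        exact plus_half hass h₀ hn₀ _
      · rw [orbit_one, show (1 : ℤ) - p = 2 - (1 + p) by ring, ← orbit_two_sub h₀ h₁]
        exact plus_half hass h₁ hn₁ _
    have e1 := base.map _ (autGroup_zpow h₀ h₁ k).1 (autGroup_zpow h₀ h₁ k).2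
    rw [map_smul, map_add, orbit_shift, orbit_shift, orbit_shift,
      show e + p + 2 * k = e + 2 * k + p by ring, show e - p + 2 * k = e + 2 * k - p by ring] at e1
    exact e1

theorem order_le_six (hV : IsMajoranaAmbient mul B)
    (h₀ : IsMajoranaPair mul B μ₀ a₀) (h₁ : IsMajoranaPair mul B μ₁ a₁)
    (hn₀ : B a₀ a₀ = 1) (hn₁ : B a₁ a₁ = 1) : ∃ n : ℕ, 1 ≤ n ∧ n ≤ 6 ∧ (μ₀ * μ₁) ^ n = 1 := by
  have hinv : μ₀ * μ₁ = (μ₁ * μ₀)⁻¹ := by rw [mul_inv_rev, inv_eq_self' h₀, inv_eq_self' h₁]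
  have finish : ∀ n : ℕ, 1 ≤ n → n ≤ 6 → (μ₁ * μ₀) ^ (n : ℤ) = 1 →
      ∃ n : ℕ, 1 ≤ n ∧ n ≤ 6 ∧ (μ₀ * μ₁) ^ n = 1 := by
    intro n hn1 hn6 h
    rw [zpow_natCast] at h
    exact ⟨n, hn1, hn6, by rw [hinv, inv_pow, h, inv_one]⟩
  have hauto := fun k => (autGroup_zpow h₀ h₁ k).1
  have even0 : ∀ k : ℤ, orbitAxis μ₀ μ₁ a₀ a₁ (0 + 2 * k) = a₀ →
      (μ₁ * μ₀) ^ (2 * k) = 1 := by
    intro k hk
    rw [← orbit_shift, orbit_zero] at hk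
    have h := intertwine h₀ h₀ (hauto k) hk
    rw [left_conj h₀ h₁ k, mul_left_inj] at h
    calc (μ₁ * μ₀) ^ (2 * k) = (μ₁ * μ₀) ^ k * (μ₁ * μ₀) ^ k := by rw [two_mul, zpow_add]
      _ = (μ₁ * μ₀) ^ k * (μ₁ * μ₀) ^ (-k) := by rw [← h]
      _ = 1 := by rw [← zpow_add, add_neg_cancel, zpow_zero]
  have odd0 : ∀ k : ℤ, orbitAxis μ₀ μ₁ a₀ a₁ (1 + 2 * k) = a₀ →
      (μ₁ * μ₀) ^ (2 * k + 1) = 1 := by
    intro k hk
    rw [← orbit_shift, orbit_one] at hk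
    have h := intertwine h₁ h₀ (hauto k) hk
    rw [left_conj h₀ h₁ k] at h
    have h := congrArg (· * μ₀) h
    simp only [mul_assoc, sq_eq_one h₀, mul_one] at h
    calc (μ₁ * μ₀) ^ (2 * k + 1) = (μ₁ * μ₀) ^ k * ((μ₁ * μ₀) ^ k * (μ₁ * μ₀)) := by
          rw [show 2 * k + 1 = k + (k + 1) by ring, zpow_add, zpow_add, zpow_one]
      _ = (μ₁ * μ₀) ^ k * (μ₁ * μ₀) ^ (-k) := by rw [h]
      _ = 1 := by rw [← zpow_add, add_neg_cancel, zpow_zero]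
  rcases (fam_orbit hV h₀ h₁ hn₀ hn₁).period hV.2.2.1 with h | h | h | h | h
  · exact finish 2 (by norm_num) (by norm_num) (even0 1 (h.trans orbit_zero))
  · exact finish 3 (by norm_num) (by norm_num) (odd0 1 (h.trans orbit_zero))
  · exact finish 4 (by norm_num) (by norm_num) (even0 2 (h.trans orbit_zero))
  · exact finish 5 (by norm_num) (by norm_num) (odd0 2 (h.trans orbit_zero))
  · have hk := congrArg ((μ₁ * μ₀) ^ (-1 : ℤ)) h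
    rw [orbit_shift, orbit_shift] at hk
    norm_num at hk
    rw [orbit_one, show (-5 : ℤ) = 1 + 2 * (-3) by norm_num, ← orbit_shift, orbit_one] at hk
    have h' := intertwine h₁ h₁ (hauto (-3)) hk.symm
    rw [right_conj h₀ h₁] at h'
    have h' := congrArg (· * μ₀) h'
    simp only [mul_assoc, sq_eq_one h₀, mul_one] at h'
    refine finish 6 (by norm_num) le_rfl ?_
    calc (μ₁ * μ₀) ^ ((6 : ℕ) : ℤ) = (μ₁ * μ₀) ^ (1 - (-3 : ℤ)) * ((μ₁ * μ₀) ^ (-3 : ℤ) * (μ₁ * μ₀))⁻¹ := by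
          rw [mul_inv_rev, ← zpow_neg, ← zpow_neg_one, ← zpow_add, ← zpow_add]
          norm_num
      _ = 1 := by rw [h', mul_inv_cancel]

end Cfsg.Lib.Majorana
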