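import Cfsg.Agent.Lib.Majorana.Axis

/-!
Sequences of axes permuted by a dihedral group, indexed by the integers.
-/

set_option autoImplicit false

namespace Cfsg.Lib.Majorana

open Cfsg.Axial

variable {V : Type*} [AddCommGroup V] [Module ℝ V]
  {mul : V →ₗ[ℝ] V →ₗ[ℝ] V} {B : LinearMap.BilinForm ℝ V}

/-- The data of a dihedral sequence of Majorana axes. -/
structure Fam (mul : V →ₗ[ℝ] V →ₗ[ℝ] V) (B : LinearMap.BilinForm ℝ V) (a : ℤ → V) : Prop where
  comm : ∀ u v : V, mul u v = mul v u
  symm : ∀ u v : V, B u v = B v u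
  assoc : ∀ u v w : V, B u (mul v w) = B (mul u v) w
  idem : ∀ i, mul (a i) (a i) = a i
  norm : ∀ i, B (a i) (a i) = 1
  refl : ∀ l i j, B (a (2 * l - i)) (a (2 * l - j)) = B (a i) (a j)
  minus : ∀ i k, mul (a i) (a (i + k) - a (i - k)) = (1 / 32 : ℝ) • (a (i + k) - a (i - k))
  plus : ∀ i k, Plus mul B (a i) ((1 / 2 : ℝ) • (a (i + k) + a (i - k)))

/-- The shifted product of two axes at distance `k`. -/
noncomputable def sOf (mul : V →ₗ[ℝ] V →ₗ[ℝ] V) (a : ℤ → V) (k i : ℤ) : V :=
  mul (a i) (a (i + k)) - (1 / 32 : ℝ) • (a i + a (i + k))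

variable {a : ℤ → V}

theorem Fam.sub (F : Fam mul B a) (i k : ℤ) : Fam mul B (fun j => a (i + k * j)) where
  comm := F.comm
  symm := F.symm
  assoc := F.assoc
  idem := fun _ => F.idem _
  norm := fun _ => F.norm _
  refl := fun l p q => by
    have e := F.refl (i + k * l) (i + k * p) (i + k * q)
    rwa [show 2 * (i + k * l) - (i + k * p) = i + k * (2 * l - p) by ring,
      show 2 * (i + k * l) - (i + k * q) = i + k * (2 * l - q) by ring] at e
  minus := fun p q => by
    have e := F.minus (i + k * p) (k * q)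
    rwa [show i + k * p + k * q = i + k * (p + q) by ring,
      show i + k * p - k * q = i + k * (p - q) by ring] at e
  plus := fun p q => by
    have e := F.plus (i + k * p) (k * q)
    rwa [show i + k * p + k * q = i + k * (p + q) by ring,
      show i + k * p - k * q = i + k * (p - q) by ring] at e

theorem Fam.dist_one (F : Fam mul B a) (i j : ℤ) (h : j = i + 1 ∨ i = j + 1) :
    B (a i) (a j) = B (a 0) (a 1) := by
  have key : ∀ p : ℤ, B (a p) (a (p + 1)) = B (a 0) (a 1) := by
    intro p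
    rcases Int.even_or_odd p with ⟨l, hl⟩ | ⟨l, hl⟩
    · have e1 := F.refl 0 0 1
      have e2 := F.refl l 0 (-1)
      norm_num at e1 e2
      rw [hl, show l + l = 2 * l by ring, e2, e1]
    · have e := F.refl (l + 1) 0 1
      norm_num at e
      rw [hl, show 2 * l + 1 + 1 = 2 * (l + 1) by ring,
        show 2 * l + 1 = 2 * (l + 1) - 1 by ring, F.symm, e]
  rcases h with rfl | rfl
  · exact key i
  · rw [F.symm]
    exact key j

theorem Fam.prod_eq (_F : Fam mul B a) (k i j : ℤ) (h : j = i + k) :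
    mul (a i) (a j) = sOf mul a k i + (1 / 32 : ℝ) • (a i + a j) := by
  subst h
  simp [sOf]

theorem Fam.prod_eq' (F : Fam mul B a) (k i j : ℤ) (h : i = j + k) :
    mul (a i) (a j) = sOf mul a k j + (1 / 32 : ℝ) • (a i + a j) := by
  rw [F.comm, F.prod_eq k j i h, add_comm (a i)]

theorem Fam.sOf_step (F : Fam mul B a) (k i j : ℤ) (h : i = j + k) :
    sOf mul a k i = sOf mul a k j := by
  subst h
  have e := F.minus (j + k) k
  rw [show j + k - k = j by ring, map_sub, F.comm (a (j + k)) (a j)] at e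
  simp only [sOf]
  linear_combination (norm := module) e

theorem Fam.sOf_one (F : Fam mul B a) (i : ℤ) : sOf mul a 1 i = sOf mul a 1 0 := by
  induction i using Int.induction_on with
  | zero => rfl
  | succ p hp => rw [F.sOf_step 1 _ (p : ℤ) rfl, hp]
  | pred p hp => rw [← F.sOf_step 1 (-(p : ℤ)) (-(p : ℤ) - 1) (by ring), hp]

theorem Fam.sOf_two (F : Fam mul B a) (i j : ℤ) (h : i = j + 2) :
    sOf mul a 2 i = sOf mul a 2 j :=
  F.sOf_step 2 i j h

/-- The product of an axis with the shifted product of it and its neighbour. -/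
theorem Fam.axis_s (F : Fam mul B a) (i : ℤ) :
    mul (a i) (sOf mul a 1 0) = (7 / 32 : ℝ) • sOf mul a 1 0
      + ((768 * B (a 0) (a 1) - 25) / 1024) • a i + (7 / 2048 : ℝ) • (a (i + 1) + a (i - 1)) := by
  obtain ⟨z, v, hu, hz, hv, -, -, -⟩ := F.plus i 1
  have hL : B (a i) ((1 / 2 : ℝ) • (a (i + 1) + a (i - 1))) = B (a 0) (a 1) := by
    rw [map_smul, map_add, F.dist_one i (i + 1) (by omega), F.dist_one i (i - 1) (by omega),
      smul_eq_mul]
    ring
  rw [hL] at hu
  have h1 := congrArg (fun y => mul (a i) y) hu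
  simp only [map_add, map_smul, F.idem, hz, hv] at h1
  have h2 := congrArg (fun y => mul (a i) y) h1
  simp only [map_add, map_smul, F.idem, map_zero, hv] at h2
  rw [F.prod_eq 1 i (i + 1) rfl, F.prod_eq' 1 i (i - 1) (by ring), F.sOf_one i,
    F.sOf_one (i - 1)] at h1 h2
  simp only [map_add, map_smul, F.idem] at h2
  rw [F.prod_eq 1 i (i + 1) rfl, F.prod_eq' 1 i (i - 1) (by ring), F.sOf_one i,
    F.sOf_one (i - 1)] at h2
  linear_combination (norm := module) h2 - (1 / 4 : ℝ) • h1

/-- The product of an axis with the shifted product at distance two. -/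
theorem Fam.axis_two (F : Fam mul B a) (i : ℤ) :
    mul (a i) (sOf mul a 2 i) = (7 / 32 : ℝ) • sOf mul a 2 i
      + ((768 * B (a i) (a (i + 2)) - 25) / 1024) • a i
      + (7 / 2048 : ℝ) • (a (i + 2) + a (i - 2)) := by
  have e := (F.sub i 2).axis_s 0
  simp only [sOf] at e ⊢
  norm_num at e ⊢
  convert e using 3
  ring_nf

end Cfsg.Lib.Majorana
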