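import Cfsg.Agent.Lib.Majorana.Fam

/-!
The two product formulas of Sakuma's computation.
-/

set_option autoImplicit false

namespace Cfsg.Lib.Majorana

open Cfsg.Axial

variable {V : Type*} [AddCommGroup V] [Module ℝ V]
  {mul : V →ₗ[ℝ] V →ₗ[ℝ] V} {B : LinearMap.BilinForm ℝ V} {a : ℤ → V}

theorem bilin_three (hc : ∀ u v : V, mul u v = mul v u) (p q r p' q' r' : ℝ) (u s c : V) :
    mul (p • u + q • s + r • c) (p' • u + q' • s + r' • c)
      = (p * p') • mul u u + (q * q') • mul s s + (p * q' + q * p') • mul u s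
        + (p * r' + r * p') • mul c u + (q * r' + r * q') • mul c s + (r * r') • mul c c := by
  simp only [map_add, map_smul, LinearMap.add_apply, LinearMap.smul_apply]
  rw [hc s u, hc u c, hc s c]
  module

/-- The two product formulas at the axis with index `i`. -/
theorem Fam.products (F : Fam mul B a) (i : ℤ) :
    let L := B (a 0) (a 1)
    let n := B (a (i - 1)) (a (i + 1))
    let s := sOf mul a 1 0
    mul (a i) (sOf mul a 2 (i + 1))
        = ((32 * L) / 3 - 19 / 48) • s + (-32 / 3 * L ^ 2 + 5 / 3 * L - n / 24 - 127 / 3072) • a i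
          + (L / 6 - 19 / 3072) • (a (i + 1) + a (i - 1)) + (7 / 96 : ℝ) • sOf mul a 2 i
          + (7 / 6144 : ℝ) • (a (i + 2) + a (i - 2)) ∧
      mul s s = (-5 / 12 * L - 13 / 1536) • s
          + (7 / 6 * L ^ 2 - 7 / 384 * L + 7 / 1536 * n - 7 / 98304) • a i
          + (49 / 768 * L - 245 / 196608) • (a (i + 1) + a (i - 1))
          + (-7 / 1536 : ℝ) • sOf mul a 2 i + (7 / 2048 : ℝ) • sOf mul a 2 (i + 1)
          + (49 / 196608 : ℝ) • (a (i + 2) + a (i - 2)) := by
  intro L n s
  set u : V := (1 / 2 : ℝ) • (a (i + 1) + a (i - 1)) with hu_def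
  obtain ⟨z, v, hu, hz, hv, hzz, hzv, hvv⟩ := F.plus i 1
  rw [← hu_def] at hu
  clear_value u
  have hL : B (a i) u = L := by
    rw [hu_def, map_smul, map_add, F.dist_one i (i + 1) (by omega),
      F.dist_one i (i - 1) (by omega), smul_eq_mul]
    ring
  rw [hL] at hu
  have hau : mul (a i) u = s + (1 / 32 : ℝ) • (a i + u) := by
    rw [hu_def, map_smul, map_add, F.prod_eq 1 i (i + 1) rfl,
      F.prod_eq' 1 i (i - 1) (by ring), F.sOf_one i, F.sOf_one (i - 1)]
    module
  have has : mul (a i) s = (7 / 32 : ℝ) • s + ((768 * L - 25) / 1024) • a i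
      + (7 / 1024 : ℝ) • u := by
    rw [show mul (a i) s = _ from F.axis_s i, hu_def]
    module
  have hw : mul (a (i - 1)) (a (i + 1))
      = sOf mul a 2 (i + 1) + (1 / 16 : ℝ) • u := by
    rw [F.prod_eq 2 (i - 1) (i + 1) (by ring), ← F.sOf_two (i + 1) (i - 1) (by ring), hu_def]
    module
  have huu : mul u u = (17 / 32 : ℝ) • u + (1 / 2 : ℝ) • sOf mul a 2 (i + 1) := by
    have e : mul u u = (1 / 4 : ℝ) • (a (i + 1) + a (i - 1))
        + (1 / 2 : ℝ) • mul (a (i - 1)) (a (i + 1)) := by
      rw [hu_def]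
      simp only [map_add, map_smul, LinearMap.add_apply, LinearMap.smul_apply, F.idem]
      rw [F.comm (a (i + 1)) (a (i - 1))]
      module
    rw [e, hw, hu_def]
    module
  have hus : mul u s = (7 / 32 : ℝ) • s + ((768 * L - 25) / 1024) • u
      + (7 / 4096 : ℝ) • (a (i + 2) + a (i - 2)) + (7 / 2048 : ℝ) • a i := by
    have e1 : mul (a (i + 1)) s = (7 / 32 : ℝ) • s + ((768 * L - 25) / 1024) • a (i + 1)
        + (7 / 2048 : ℝ) • (a (i + 2) + a i) := by
      rw [show mul (a (i + 1)) s = _ from F.axis_s (i + 1), show i + 1 + 1 = i + 2 by ring,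
        show i + 1 - 1 = i by ring]
    have e2 : mul (a (i - 1)) s = (7 / 32 : ℝ) • s + ((768 * L - 25) / 1024) • a (i - 1)
        + (7 / 2048 : ℝ) • (a i + a (i - 2)) := by
      rw [show mul (a (i - 1)) s = _ from F.axis_s (i - 1), show i - 1 + 1 = i by ring,
        show i - 1 - 1 = i - 2 by ring]
    rw [hu_def, map_smul, map_add, LinearMap.smul_apply, LinearMap.add_apply, e1, e2]
    module
  have hvdef : v = (1 / 8 : ℝ) • u + (4 : ℝ) • s + (-(32 * L - 1) / 8) • a i := by
    have e := congrArg (fun y => mul (a i) y) hu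
    simp only [map_add, map_smul, F.idem, hz, hv] at e
    rw [hau] at e
    linear_combination (norm := module) (-4 : ℝ) • e
  have hzdef : z = (7 / 8 : ℝ) • u + (-4 : ℝ) • s + ((24 * L - 1) / 8) • a i := by
    linear_combination (norm := module) -hu - hvdef
  have hnv : B v v = (64 * L - 64 * L ^ 2 - 1 + n) / 16 := by
    have hBv : B (a i) v = 0 := by
      have h1 := F.assoc (a i) (a i) v
      rw [hv, map_smul, F.idem, smul_eq_mul] at h1
      linarith
    have hzv0 : B v z = 0 := by
      have h1 := F.assoc v (a i) z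
      rw [hz, map_zero, F.comm v, hv, map_smul, LinearMap.smul_apply, smul_eq_mul] at h1
      linarith
    have h1 : B u (mul (a i) u) = L ^ 2 + B v v / 4 := by
      have e : mul (a i) u = L • a i + (1 / 4 : ℝ) • v := by
        rw [hu]
        simp only [map_add, map_smul, F.idem, hz, hv]
        abel
      rw [e, map_add, map_smul, map_smul, F.symm u (a i), hL, smul_eq_mul, smul_eq_mul,
        F.symm u v, hu, map_add, map_add, map_smul, F.symm v (a i), hBv, hzv0, smul_eq_mul]
      ring
    have h2 : B u (mul (a i) u) = B (a i) (mul u u) := by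
      rw [F.assoc, F.comm u (a i), F.symm, F.assoc (a i) u u, F.symm]
    have h3 : B (a i) (sOf mul a 2 (i + 1)) = (30 * L - 1 + n) / 32 := by
      have h4 : B (a i) (mul (a (i - 1)) (a (i + 1))) = (31 * L - 1) / 32 + (L + n) / 32 := by
        rw [F.assoc, F.prod_eq' 1 i (i - 1) (by ring), F.sOf_one, map_add, map_smul,
          LinearMap.add_apply, LinearMap.smul_apply, map_add, LinearMap.add_apply,
          F.dist_one i (i + 1) (by omega)]
        have h5 : B s (a (i + 1)) = (31 * L - 1) / 32 := by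
          have h6 := F.assoc (a (i + 1)) (a (i + 1)) (a (i + 2))
          rw [F.idem, F.prod_eq 1 (i + 1) (i + 2) (by ring), F.sOf_one, map_add, map_smul,
            map_add, F.norm, F.dist_one (i + 1) (i + 2) (by omega)] at h6
          rw [F.symm]
          simp only [smul_eq_mul] at h6
          linarith
        show B s (a (i + 1)) + (1 / 32 : ℝ) • (L + n) = _
        rw [h5, smul_eq_mul]
        ring
      rw [hw, map_add, map_smul, hL, smul_eq_mul] at h4
      linarith
    rw [h2, huu, map_add, map_smul, map_smul, hL, h3, smul_eq_mul, smul_eq_mul] at h1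
    linarith
  have hprod := fun p q r p' q' r' => bilin_three (mul := mul) F.comm p q r p' q' r' u s (a i)
  have hauu : mul (a i) (mul u u) = (17 / 32 : ℝ) • (s + (1 / 32 : ℝ) • (a i + u))
      + (1 / 2 : ℝ) • mul (a i) (sOf mul a 2 (i + 1)) := by
    rw [huu, map_add, map_smul, map_smul, hau]
  have haus : mul (a i) (mul u s) = (7 / 32 : ℝ) • mul (a i) s
      + ((768 * L - 25) / 1024) • mul (a i) u
      + (7 / 4096 : ℝ) • ((2 : ℝ) • sOf mul a 2 i + (1 / 32 : ℝ) • (a (i + 2) + a (i - 2))
        + (1 / 16 : ℝ) • a i)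
      + (7 / 2048 : ℝ) • a i := by
    rw [hus, map_add, map_add, map_add, map_smul, map_smul, map_smul, map_smul, map_add, F.idem,
      F.prod_eq 2 i (i + 2) rfl, F.prod_eq' 2 i (i - 2) (by ring),
      ← F.sOf_two i (i - 2) (by ring)]
    module
  rw [hzdef, hprod] at hzz
  rw [hvdef, hprod] at hvv
  rw [← hvdef, hnv] at hvv
  rw [hzdef, hvdef, hprod] at hzv
  simp only [map_add, map_smul, hauu, haus, hau, has, F.idem] at hzz hvv hzv
  simp only [huu, hus, hau, has] at hzv
  simp only [hu_def] at hzz hvv hzv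
  refine ⟨?_, ?_⟩
  · linear_combination (norm := module) (8 / 3 : ℝ) • hzz - (8 / 3 : ℝ) • hvv
  · linear_combination (norm := module) (-1 / 24 : ℝ) • hzz + (7 / 24 : ℝ) • hvv + (1 / 4 : ℝ) • hzv

end Cfsg.Lib.Majorana
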