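import Cfsg.Agent.Lib.Majorana.Products

/-!
Sakuma's theorem: the possible inner products in a dihedral sequence of Majorana axes.
-/

set_option autoImplicit false

namespace Cfsg.Lib.Majorana

variable {V : Type*} [AddCommGroup V] [Module ℝ V]
  {mul : V →ₗ[ℝ] V →ₗ[ℝ] V} {B : LinearMap.BilinForm ℝ V} {a : ℤ → V}

theorem Fam.pair_s (F : Fam mul B a) (i : ℤ) :
    B (a i) (sOf mul a 1 0) = (31 * B (a 0) (a 1) - 1) / 32 := by
  have h := F.assoc (a i) (a i) (a (i + 1))
  rw [F.idem, F.prod_eq 1 i (i + 1) rfl, F.sOf_one i, map_add, map_smul, map_add, F.norm,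
    F.dist_one i (i + 1) (by omega)] at h
  simp only [smul_eq_mul] at h
  linarith

theorem Fam.pair_even (F : Fam mul B a) (i : ℤ) :
    B (a i) (sOf mul a 2 i) = (31 * B (a i) (a (i + 2)) - 1) / 32 := by
  have h := F.assoc (a i) (a i) (a (i + 2))
  rw [F.idem, F.prod_eq 2 i (i + 2) rfl, map_add, map_smul, map_add, F.norm] at h
  simp only [smul_eq_mul] at h
  linarith

theorem Fam.pair_odd (F : Fam mul B a) (i : ℤ) :
    B (a i) (sOf mul a 2 (i + 1))
      = (30 * B (a 0) (a 1) - 1 + B (a (i - 1)) (a (i + 1))) / 32 := by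
  have h := F.assoc (a i) (a (i - 1)) (a (i + 1))
  rw [F.prod_eq 2 (i - 1) (i + 1) (by ring), ← F.sOf_two (i + 1) (i - 1) (by ring),
    F.prod_eq' 1 i (i - 1) (by ring), F.sOf_one] at h
  simp only [map_add, map_smul, LinearMap.add_apply, LinearMap.smul_apply, smul_eq_mul] at h
  rw [F.dist_one i (i - 1) (by omega), F.dist_one i (i + 1) (by omega),
    F.symm _ (a (i + 1)), F.pair_s (i + 1)] at h
  linarith

theorem Fam.dist_two_step (F : Fam mul B a) (i : ℤ) :
    B (a (i + 2)) (a (i + 4)) = B (a i) (a (i + 2)) := by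
  have e := F.refl (i + 2) (i + 2) i
  rwa [show 2 * (i + 2) - (i + 2) = i + 2 by ring, show 2 * (i + 2) - i = i + 4 by ring,
    F.symm (a (i + 2)) (a i)] at e

theorem Fam.dist_two (F : Fam mul B a) (i j : ℤ) (h : j = i + 2 ∨ i = j + 2) :
    B (a i) (a j) = B (a 0) (a 2) := by
  have step : ∀ p : ℤ, B (a (p - 1)) (a (p + 1)) = B (a p) (a (p + 2)) := by
    intro p
    have h2 : B (a p) (a (p - 2)) = B (a p) (a (p + 2)) := by
      have e := F.dist_two_step (p - 2)
      rw [show p - 2 + 2 = p by ring, show p - 2 + 4 = p + 2 by ring] at e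
      rw [F.symm, ← e]
    have e1 : B (a p) (mul (a p) (sOf mul a 2 (p + 1))) = B (a p) (sOf mul a 2 (p + 1)) := by
      rw [F.assoc, F.idem]
    rw [(F.products p).1] at e1
    simp only [map_add, map_smul, smul_eq_mul] at e1
    rw [F.pair_s, F.norm, F.dist_one p (p + 1) (by omega), F.dist_one p (p - 1) (by omega),
      F.pair_even, h2, F.pair_odd] at e1
    linarith
  have key : ∀ p : ℤ, B (a p) (a (p + 2)) = B (a 0) (a 2) := by
    intro p
    induction p using Int.induction_on with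
    | zero => norm_num
    | succ q hq =>
      have e := step ((q : ℤ) + 1)
      rw [show (q : ℤ) + 1 - 1 = q by ring, show (q : ℤ) + 1 + 1 = q + 2 by ring] at e
      rw [← e, hq]
    | pred q hq =>
      have e := step (-(q : ℤ))
      rw [show -(q : ℤ) - 1 + 2 = -(q : ℤ) + 1 by ring, e, hq]
  rcases h with rfl | rfl
  · exact key i
  · rw [F.symm]
    exact key j

theorem Fam.pair_two (F : Fam mul B a) (i j : ℤ) (h : j = i ∨ i = j + 2) :
    B (a i) (sOf mul a 2 j) = (31 * B (a 0) (a 2) - 1) / 32 := by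
  rcases h with rfl | rfl
  · rw [F.pair_even, F.dist_two _ _ (Or.inl rfl)]
  · rw [← F.sOf_two (j + 2) j rfl, F.pair_even, F.dist_two _ _ (Or.inl rfl)]

theorem Fam.pair_two' (F : Fam mul B a) (i j : ℤ) (h : j = i + 1 ∨ i = j + 1) :
    B (a i) (sOf mul a 2 j) = (30 * B (a 0) (a 1) - 1 + B (a 0) (a 2)) / 32 := by
  have h2 := F.pair_odd i
  rw [F.dist_two (i - 1) (i + 1) (by omega)] at h2
  rcases h with rfl | rfl
  · exact h2
  · rw [← F.sOf_two (j + 1 + 1) j (by ring)]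
    exact h2

/-- The third axis above `i`. -/
theorem Fam.up (F : Fam mul B a) (i : ℤ) :
    let L := B (a 0) (a 1)
    let M := B (a 0) (a 2)
    a (i + 3) = (256 * L - 6) • (a (i - 1) - a (i + 2)) + a (i - 2)
      + (32768 / 7 * L ^ 2 - 2304 / 7 * L + 128 / 7 * M + 33 / 7) • (a i - a (i + 1))
      + (32 : ℝ) • (sOf mul a 2 (i + 1) - sOf mul a 2 i) := by
  intro L M
  have h0 := (F.products i).2
  have h1 := (F.products (i + 1)).2
  rw [h0, F.dist_two (i - 1) (i + 1) (by omega), F.dist_two (i + 1 - 1) (i + 1 + 1) (by omega),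
    show i + 1 + 1 = i + 2 by ring, show i + 1 - 1 = i by ring, show i + 1 + 2 = i + 3 by ring,
    show i + 1 - 2 = i - 1 by ring, F.sOf_two (i + 2) i rfl] at h1
  linear_combination (norm := module) (-196608 / 49 : ℝ) • h1

/-- The third axis below `i`. -/
theorem Fam.down (F : Fam mul B a) (i : ℤ) :
    let L := B (a 0) (a 1)
    let M := B (a 0) (a 2)
    a (i - 3) = (256 * L - 6) • (a (i + 1) - a (i - 2)) + a (i + 2)
      + (32768 / 7 * L ^ 2 - 2304 / 7 * L + 128 / 7 * M + 33 / 7) • (a i - a (i - 1))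
      + (32 : ℝ) • (sOf mul a 2 (i + 1) - sOf mul a 2 i) := by
  intro L M
  have h0 := (F.products i).2
  have h1 := (F.products (i - 1)).2
  rw [h0, F.dist_two (i - 1) (i + 1) (by omega), F.dist_two (i - 1 - 1) (i - 1 + 1) (by omega),
    show i - 1 + 1 = i by ring, show i - 1 - 1 = i - 2 by ring, show i - 1 + 2 = i + 1 by ring,
    show i - 1 - 2 = i - 3 by ring, ← F.sOf_two (i + 1) (i - 1) (by ring)] at h1
  linear_combination (norm := module) (-196608 / 49 : ℝ) • h1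

theorem Fam.dist_three (F : Fam mul B a) (i j : ℤ) (h : j = i + 3 ∨ i = j + 3) :
    let L := B (a 0) (a 1)
    let M := B (a 0) (a 2)
    B (a i) (a j) = -32768 / 7 * L ^ 3 + 36864 / 7 * L ^ 2 - 1920 / 7 * L * M - 2169 / 7 * L
      - 33 / 7 * M + 33 / 7 := by
  intro L M
  have key : ∀ p : ℤ, B (a p) (a (p + 3)) = -32768 / 7 * L ^ 3 + 36864 / 7 * L ^ 2
      - 1920 / 7 * L * M - 2169 / 7 * L - 33 / 7 * M + 33 / 7 := by
    intro p
    have e : B (a p) (a (p + 3)) = _ := congrArg (fun y => B (a p) y) (F.up p)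
    simp only [map_add, map_sub, map_smul, smul_eq_mul] at e
    rw [F.dist_one p (p - 1) (by omega), F.dist_two p (p + 2) (by omega),
      F.dist_two p (p - 2) (by omega), F.norm, F.dist_one p (p + 1) (by omega),
      F.pair_two' p (p + 1) (by omega), F.pair_two p p (by omega)] at e
    rw [e]
    ring
  rcases h with rfl | rfl
  · exact key i
  · rw [F.symm]
    exact key j

theorem Fam.dist_four (F : Fam mul B a) (i j : ℤ) (h : j = i + 4) :
    let L := B (a 0) (a 1)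
    let M := B (a 0) (a 2)
    B (a i) (a j) = 8388608 / 7 * L ^ 4 - 9601024 / 7 * L ^ 3 + 65536 * L ^ 2 * M
      + 110592 * L ^ 2 - 640 / 7 * L * M - 19840 / 7 * L - 128 / 7 * M ^ 2 - 3 * M + 156 / 7 := by
  intro L M
  subst h
  have e : B (a i) (a (i + 4)) = _ := (congrArg (fun y => B (a i) (a y))
    (show i + 4 = i + 1 + 3 by ring)).trans (congrArg (fun y => B (a i) y) (F.up (i + 1)))
  simp only [map_add, map_sub, map_smul, smul_eq_mul, show i + 1 - 1 = i by ring,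
    show i + 1 + 2 = i + 3 by ring, show i + 1 - 2 = i - 1 by ring,
    show i + 1 + 1 = i + 2 by ring] at e
  rw [F.dist_three i (i + 3) (by omega), F.norm, F.dist_one i (i - 1) (by omega),
    F.dist_one i (i + 1) (by omega), F.dist_two i (i + 2) (by omega),
    F.sOf_two (i + 2) i rfl, F.pair_two i i (by omega), F.pair_two' i (i + 1) (by omega)] at e
  rw [e]
  ring

theorem Fam.dist_five (F : Fam mul B a) (i j : ℤ) (h : j = i + 5) :
    let L := B (a 0) (a 1)
    let M := B (a 0) (a 2)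
    B (a i) (a j) = -13958643712 / 49 * L ^ 5 + 16273899520 / 49 * L ^ 4
      - 754974720 / 49 * L ^ 3 * M - 1633419264 / 49 * L ^ 3 + 12582912 / 49 * L ^ 2 * M
      + 8683520 / 7 * L ^ 2 + 475136 / 49 * L * M ^ 2 + 259584 / 49 * L * M - 137721 / 7 * L
      - 256 / 49 * M ^ 2 - 5256 / 49 * M + 5512 / 49 := by
  intro L M
  subst h
  have e : B (a i) (a (i + 5)) = _ := (congrArg (fun y => B (a i) (a y))
    (show i + 5 = i + 2 + 3 by ring)).trans (congrArg (fun y => B (a i) y) (F.up (i + 2)))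
  simp only [map_add, map_sub, map_smul, smul_eq_mul, show i + 2 - 1 = i + 1 by ring,
    show i + 2 + 2 = i + 4 by ring, show i + 2 - 2 = i by ring,
    show i + 2 + 1 = i + 3 by ring] at e
  rw [F.dist_one i (i + 1) (by omega), F.dist_four i (i + 4) rfl, F.norm,
    F.dist_two i (i + 2) (by omega), F.dist_three i (i + 3) (by omega),
    F.sOf_two (i + 2) i rfl, F.pair_two i i (by omega),
    F.sOf_two (i + 3) (i + 1) (by ring), F.pair_two' i (i + 1) (by omega)] at e
  rw [e]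
  ring

theorem Fam.rel_one (F : Fam mul B a) :
    let L := B (a 0) (a 1)
    let M := B (a 0) (a 2)
    (-28 : ℝ) * L ^ 4 + 497 / 16 * L ^ 3 - 35 / 64 * L ^ 2 * M - 315 / 128 * L ^ 2
      - 973 / 8192 * L * M + 525 / 8192 * L - 7 / 4096 * M ^ 2 + 1169 / 524288 * M
      - 273 / 524288 = 0 := by
  intro L M
  have hee : B (sOf mul a 2 0) (sOf mul a 2 0)
      = B (a 2) (mul (a 0) (sOf mul a 2 0))
        - 1 / 32 * (B (a 0) (sOf mul a 2 0) + B (a 2) (sOf mul a 2 0)) := by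
    have e1 : B (sOf mul a 2 0) (mul (a 0) (a 2)) = B (a 2) (mul (a 0) (sOf mul a 2 0)) := by
      rw [F.assoc, F.comm (sOf mul a 2 0) (a 0), F.symm]
    have e2 : mul (a 0) (a 2) = sOf mul a 2 0 + (1 / 32 : ℝ) • (a 0 + a 2) :=
      F.prod_eq 2 0 2 (by norm_num)
    rw [e2, map_add, map_smul, map_add, smul_eq_mul, F.symm _ (a 0), F.symm _ (a 2)] at e1
    linarith
  have heo : B (sOf mul a 2 0) (sOf mul a 2 1)
      = B (a 2) (mul (a 0) (sOf mul a 2 1))
        - 1 / 32 * (B (a 0) (sOf mul a 2 1) + B (a 2) (sOf mul a 2 1)) := by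
    have e1 : B (sOf mul a 2 1) (mul (a 0) (a 2)) = B (a 2) (mul (a 0) (sOf mul a 2 1)) := by
      rw [F.assoc, F.comm (sOf mul a 2 1) (a 0), F.symm]
    have e2 : mul (a 0) (a 2) = sOf mul a 2 0 + (1 / 32 : ℝ) • (a 0 + a 2) :=
      F.prod_eq 2 0 2 (by norm_num)
    rw [e2, map_add, map_smul, map_add, smul_eq_mul, F.symm _ (a 0), F.symm _ (a 2)] at e1
    rw [F.symm (sOf mul a 2 0)]
    linarith
  have hp := (F.products 0).1
  have ha := F.axis_two 0
  have e : B (sOf mul a 2 0) (a (0 + 3)) = _ :=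
    congrArg (fun y => B (sOf mul a 2 0) y) (F.up 0)
  norm_num1 at e hp ha
  simp only [map_add, map_sub, map_smul, smul_eq_mul] at e
  rw [hee, heo, ha, hp] at e
  simp only [map_add, map_smul, smul_eq_mul] at e
  have q3 : B (sOf mul a 2 0) (a 3) = (30 * L - 1 + M) / 32 := by
    rw [F.symm, ← F.sOf_two 2 0 (by norm_num), F.pair_two' 3 2 (by omega)]
  rw [q3, F.symm (sOf mul a 2 0) (a (-1)), F.symm (sOf mul a 2 0) (a 2),
    F.symm (sOf mul a 2 0) (a (-2)), F.symm (sOf mul a 2 0) (a 0),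
    F.symm (sOf mul a 2 0) (a 1), F.pair_two' (-1) 0 (by omega), F.pair_two 2 0 (by omega),
    F.pair_two 0 0 (by omega), F.pair_two' 1 0 (by omega), F.pair_two' 0 1 (by omega),
    F.pair_two' 2 1 (by omega), F.pair_s 2, F.dist_two 2 0 (by omega), F.dist_two 0 2 (by omega),
    F.dist_one 2 1 (by omega), F.dist_three 2 (-1) (by omega),
    F.dist_two (-1) 1 (by omega), F.norm] at e
  have q2 : B (a (-2)) (sOf mul a 2 0) = (31 * M - 1) / 32 := by
    rw [F.sOf_two 0 (-2) (by norm_num), F.pair_two (-2) (-2) (by omega)]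
  have q4 : B (a 2) (a (-2)) = _ := (F.symm _ _).trans (F.dist_four (-2) 2 (by norm_num))
  rw [q2, q4] at e
  linear_combination (-49 / 196608 : ℝ) * e

theorem Fam.rel_zero (F : Fam mul B a) :
    let L := B (a 0) (a 1)
    let M := B (a 0) (a 2)
    (-402653184 / 49 : ℝ) * L ^ 5 + 453771264 / 49 * L ^ 4 - 19660800 / 49 * L ^ 3 * M
      - 33103872 / 49 * L ^ 3 + 1195008 / 49 * L ^ 2 * M + 92160 / 7 * L ^ 2
      - 70656 / 49 * L * M ^ 2 - 124392 / 49 * L * M + 216 / 7 * L - 2088 / 49 * M ^ 2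
      + 8703 / 196 * M - 351 / 196 = 0 := by
  intro L M
  have e0 : B (a 0) (mul (a 3) (a 0)) = B (a 0) (a 3) := by
    rw [F.comm, F.assoc, F.idem]
  have hd : a 0 = _ := (congrArg a (show (0 : ℤ) = 3 - 3 by norm_num)).trans (F.down 3)
  have e1 : B (a 0) (mul (a 3) (a 0)) = _ := congrArg (fun y => B (a 0) (mul (a 3) y)) hd
  rw [e0] at e1
  norm_num1 at e1
  have hp := (F.products 3).1
  have ha := F.axis_two 3
  norm_num1 at hp ha
  simp only [map_add, map_sub, map_smul] at e1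
  rw [F.idem, F.prod_eq 1 3 4 (by norm_num), F.prod_eq' 2 3 1 (by norm_num),
    F.prod_eq 2 3 5 (by norm_num), F.prod_eq' 1 3 2 (by norm_num), hp, ha,
    F.sOf_one 3, F.sOf_one 2, ← F.sOf_two 3 1 (by norm_num)] at e1
  simp only [map_add, map_sub, map_smul, smul_eq_mul] at e1
  have q1 : B (a 0) (sOf mul a 2 3) = (30 * L - 1 + M) / 32 := by
    rw [F.sOf_two 3 1 (by norm_num), F.pair_two' 0 1 (by omega)]
  rw [q1, F.pair_s 0, F.dist_three 0 3 (by omega), F.dist_four 0 4 (by norm_num),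
    F.dist_five 0 5 (by norm_num), F.dist_one 0 1 (by omega), F.dist_two 0 2 (by omega),
    F.dist_two 2 4 (by omega), F.dist_two 3 5 (by omega)] at e1
  linear_combination e1

theorem sakuma_cases {L M : ℝ}
    (h1 : -28 * L ^ 4 + 497 / 16 * L ^ 3 - 35 / 64 * L ^ 2 * M - 315 / 128 * L ^ 2
      - 973 / 8192 * L * M + 525 / 8192 * L - 7 / 4096 * M ^ 2 + 1169 / 524288 * M
      - 273 / 524288 = 0)
    (h0 : -402653184 / 49 * L ^ 5 + 453771264 / 49 * L ^ 4 - 19660800 / 49 * L ^ 3 * M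
      - 33103872 / 49 * L ^ 3 + 1195008 / 49 * L ^ 2 * M + 92160 / 7 * L ^ 2
      - 70656 / 49 * L * M ^ 2 - 124392 / 49 * L * M + 216 / 7 * L - 2088 / 49 * M ^ 2
      + 8703 / 196 * M - 351 / 196 = 0) :
    M = 1 ∨ (L = 13 / 256 ∧ M = 13 / 256) ∨ (L = 1 / 64 ∧ M = 1 / 64) ∨
      (L = 1 / 32 ∧ M = 0) ∨ (L = 1 / 64 ∧ M = 1 / 8) ∨ (L = 3 / 128 ∧ M = 3 / 128) ∨
      (L = 5 / 256 ∧ M = 13 / 256) := by
  have hlin : (-720 / 7 * L ^ 3 - 945 / 4 * L ^ 2 + 17865 / 7168 * L + 8775 / 458752) * M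
      + (-184320 / 7 * L ^ 5 + 194400 / 7 * L ^ 4 - 14985 / 14 * L ^ 3 - 3915 / 112 * L ^ 2
        + 13815 / 7168 * L - 8775 / 458752) = 0 := by
    linear_combination (-7 / 4096 : ℝ) * h0 + (70656 / 49 * L + 2088 / 49) * h1
  have hres : L * (L - 1) * (L - 1 / 8) * (L - 13 / 256) * ((L - 1 / 64) * (L - 1 / 64))
      * (L - 1 / 32) * (L - 3 / 128) * (L - 5 / 256) = 0 := by
    linear_combination (1 / 3628800 : ℝ) *
      ((-720 / 7 * L ^ 3 - 945 / 4 * L ^ 2 + 17865 / 7168 * L + 8775 / 458752) ^ 2 * h1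
        - ((-7 / 4096) * ((-720 / 7 * L ^ 3 - 945 / 4 * L ^ 2 + 17865 / 7168 * L + 8775 / 458752) * M
            - (-184320 / 7 * L ^ 5 + 194400 / 7 * L ^ 4 - 14985 / 14 * L ^ 3 - 3915 / 112 * L ^ 2
              + 13815 / 7168 * L - 8775 / 458752))
          + (-35 / 64 * L ^ 2 - 973 / 8192 * L + 1169 / 524288)
            * (-720 / 7 * L ^ 3 - 945 / 4 * L ^ 2 + 17865 / 7168 * L + 8775 / 458752)) * hlin)
  simp only [mul_eq_zero, or_self, sub_eq_zero] at hres
  rcases hres with ((((((rfl | rfl) | rfl) | rfl) | rfl) | rfl) | rfl) | rfl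
  · left; linarith
  · left; linarith
  · left; linarith
  · right; left; exact ⟨rfl, by linarith⟩
  · have hq : (M - 1 / 64) * (M - 1 / 8) = 0 := by linear_combination (-4096 / 7 : ℝ) * h1
    rcases mul_eq_zero.1 hq with h | h <;> rw [sub_eq_zero] at h
    · exact Or.inr (Or.inr (Or.inl ⟨rfl, h⟩))
    · exact Or.inr (Or.inr (Or.inr (Or.inr (Or.inl ⟨rfl, h⟩))))
  · exact Or.inr (Or.inr (Or.inr (Or.inl ⟨rfl, by linarith⟩)))
  · exact Or.inr (Or.inr (Or.inr (Or.inr (Or.inr (Or.inl ⟨rfl, by linarith⟩)))))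
  · exact Or.inr (Or.inr (Or.inr (Or.inr (Or.inr (Or.inr ⟨rfl, by linarith⟩)))))

/-- The sequence of axes has period at most six. -/
theorem Fam.period (F : Fam mul B a) (hpos : ∀ u : V, u ≠ 0 → 0 < B u u) :
    a 2 = a 0 ∨ a 3 = a 0 ∨ a 4 = a 0 ∨ a 5 = a 0 ∨ a 3 = a (-3) := by
  have heq : ∀ i j : ℤ, B (a i) (a j) = 1 → a j = a i := by
    intro i j h
    by_contra hne
    have h2 := hpos (a j - a i) (sub_ne_zero.2 hne)
    simp only [map_sub, LinearMap.sub_apply, F.norm, F.symm (a j) (a i), h] at h2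
    norm_num at h2
  have h3 : B (a 0) (a 3) = _ := F.dist_three 0 3 (by omega)
  have h4 : B (a 0) (a 4) = _ := F.dist_four 0 4 (by norm_num)
  have h5 : B (a 0) (a 5) = _ := F.dist_five 0 5 (by norm_num)
  rcases sakuma_cases F.rel_one F.rel_zero with hM | ⟨hL, hM⟩ | ⟨hL, hM⟩ | ⟨hL, hM⟩ | ⟨hL, hM⟩
      | ⟨hL, hM⟩ | ⟨hL, hM⟩
  · exact Or.inl (heq 0 2 hM)
  · exact Or.inr (Or.inl (heq 0 3 (by rw [h3, hL, hM]; norm_num)))
  · exact Or.inr (Or.inl (heq 0 3 (by rw [h3, hL, hM]; norm_num)))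
  · exact Or.inr (Or.inr (Or.inl (heq 0 4 (by rw [h4, hL, hM]; norm_num))))
  · exact Or.inr (Or.inr (Or.inl (heq 0 4 (by rw [h4, hL, hM]; norm_num))))
  · exact Or.inr (Or.inr (Or.inr (Or.inl (heq 0 5 (by rw [h5, hL, hM]; norm_num)))))
  · refine Or.inr (Or.inr (Or.inr (Or.inr ?_)))
    have hu := F.up 0
    have hd := F.down 0
    norm_num1 at hu hd
    rw [hL, hM] at hu hd
    linear_combination (norm := module) hu - hd

end Cfsg.Lib.Majorana
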